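import Cfsg.Agent.Lib.Spider.Main
import Cfsg.Prelude.Def_Spor_M

/-!
The further relators of the Bimonster presentation follow from the spider relation.
-/

set_option autoImplicit false

namespace CfsgLib.Spider.Bim

open Cfsg.Spor CfsgLib.CosetEnum

/-- Arm 1 long. -/
def σ1 : Option Fi23.Gen → Bimonster.Gen
  | none => .f1
  | some .a => .d3
  | some .b => .c3
  | some .c => .b3
  | some .d => .a
  | some .e => .b1
  | some .f => .c1
  | some .g => .d1
  | some .j => .e1
  | some .h => .b2
  | some .i => .c2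

theorem σ1_ok : ∀ x ∈ coxNodes Main.edges, ∀ y ∈ coxNodes Main.edges,
    σ1 x ∈ coxNodes Bimonster.edges ∧ σ1 y ∈ coxNodes Bimonster.edges ∧
      coxLabel Bimonster.edges (σ1 x) (σ1 y) = coxLabel Main.edges x y := by
  decide +kernel

/-- Arm 2 long. -/
def σ2 : Option Fi23.Gen → Bimonster.Gen
  | none => .f2
  | some .a => .d1
  | some .b => .c1
  | some .c => .b1
  | some .d => .a
  | some .e => .b2
  | some .f => .c2
  | some .g => .d2
  | some .j => .e2
  | some .h => .b3
  | some .i => .c3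

theorem σ2_ok : ∀ x ∈ coxNodes Main.edges, ∀ y ∈ coxNodes Main.edges,
    σ2 x ∈ coxNodes Bimonster.edges ∧ σ2 y ∈ coxNodes Bimonster.edges ∧
      coxLabel Bimonster.edges (σ2 x) (σ2 y) = coxLabel Main.edges x y := by
  decide +kernel

/-- Arm 3 long. -/
def σ3 : Option Fi23.Gen → Bimonster.Gen
  | none => .f3
  | some .a => .d2
  | some .b => .c2
  | some .c => .b2
  | some .d => .a
  | some .e => .b3
  | some .f => .c3
  | some .g => .d3
  | some .j => .e3
  | some .h => .b1
  | some .i => .c1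

theorem σ3_ok : ∀ x ∈ coxNodes Main.edges, ∀ y ∈ coxNodes Main.edges,
    σ3 x ∈ coxNodes Bimonster.edges ∧ σ3 y ∈ coxNodes Bimonster.edges ∧
      coxLabel Bimonster.edges (σ3 x) (σ3 y) = coxLabel Main.edges x y := by
  decide +kernel

/-- The relator kept. -/
abbrev sp : FreeGroup Bimonster.Gen :=
  (Bimonster.a * Bimonster.b1 * Bimonster.c1 * Bimonster.a * Bimonster.b2 * Bimonster.c2 *
    Bimonster.a * Bimonster.b3 * Bimonster.c3) ^ 10

/-- The group on the spider relation alone. -/
abbrev S : Type := CoxPresented Bimonster.Gen Bimonster.edges [sp]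

/-- A generator. -/
abbrev o (y : Bimonster.Gen) : S := PresentedGroup.of y

theorem exists_parity : ∃ ε : S →* ℤˣ, ∀ y, ε (o y) = -1 := by
  have hc : CoxRel Bimonster.edges (fun _ : Bimonster.Gen => (-1 : ℤˣ)) := by
    intro a _ b _
    simp
  refine ⟨PresentedGroup.toGroup (hc.lift_one (extra := [sp]) ?_), fun y => PresentedGroup.toGroup.of _⟩
  intro r hr
  obtain rfl := List.mem_singleton.mp hr
  simp [sp]
  decide

theorem spider : (o .a * o .b1 * o .c1 * o .a * o .b2 * o .c2 * o .a * o .b3 * o .c3) ^ 10 = 1 := by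
  have h := PresentedGroup.one_of_mem (rels := coxRelators Bimonster.edges ∪ {r | r ∈ [sp]}) (x := sp)
    (Or.inr (List.mem_singleton_self sp))
  simp only [sp, map_pow, map_mul] at h
  exact h

theorem spider2 : (o .a * o .b2 * o .c2 * o .a * o .b3 * o .c3 * o .a * o .b1 * o .c1) ^ 10 = 1 := by
  have h := rotate_pow (a := o .a * o .b1 * o .c1) (b := o .a * o .b2 * o .c2 * o .a * o .b3 * o .c3) (n := 10)
    (by simpa [mul_assoc] using spider)
  simpa [mul_assoc] using h

theorem spider3 : (o .a * o .b3 * o .c3 * o .a * o .b1 * o .c1 * o .a * o .b2 * o .c2) ^ 10 = 1 := by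
  have h := rotate_pow (a := o .a * o .b2 * o .c2) (b := o .a * o .b3 * o .c3 * o .a * o .b1 * o .c1) (n := 10)
    (by simpa [mul_assoc] using spider2)
  simpa [mul_assoc] using h

theorem relators :
    ∀ r ∈ Bimonster.extra, (PresentedGroup.mk (coxRelators Bimonster.edges ∪ {r | r ∈ [sp]}) r : S) = 1 := by
  obtain ⟨ε, hε⟩ := exists_parity
  have hc : CoxRel Bimonster.edges o := coxRel_of _ _
  obtain ⟨a1, a1'⟩ := Main.end_node (fun y => o (σ1 y)) (hc.comp σ1 σ1_ok) ε (fun _ => hε _)
    (by simpa [σ1, mul_assoc] using spider3)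
  obtain ⟨a2, a2'⟩ := Main.end_node (fun y => o (σ2 y)) (hc.comp σ2 σ2_ok) ε (fun _ => hε _)
    (by simpa [σ2, mul_assoc] using spider)
  obtain ⟨a3, a3'⟩ := Main.end_node (fun y => o (σ3 y)) (hc.comp σ3 σ3_ok) ε (fun _ => hε _)
    (by simpa [σ3, mul_assoc] using spider2)
  simp only [σ1] at a1 a1'
  simp only [σ2] at a2 a2'
  simp only [σ3] at a3 a3'
  intro r hr
  simp only [Bimonster.extra, List.mem_cons, List.not_mem_nil, or_false] at hr
  rcases hr with rfl | rfl | rfl | rfl | rfl | rfl | rfl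
  · exact PresentedGroup.one_of_mem (Or.inr (List.mem_singleton_self sp))
  all_goals rw [map_mul, map_inv, mul_inv_eq_one, map_pow, map_mul, map_mul, map_mul, map_mul, map_mul, map_mul]
  exacts [a1', a1, a2, a2', a3', a3]

end CfsgLib.Spider.Bim
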