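import Cfsg.Agent.Lib.Spider.Y522
import Cfsg.Agent.Lib.Spider.Fi23Word

/-!
The spider relation alone makes the end node of a long arm a word in the other letters.
-/

set_option autoImplicit false

namespace CfsgLib.Spider.Main

open Cfsg.Spor CfsgLib.CosetEnum

variable {G : Type*} [Group G]

theorem long_word (x : Fi23.Gen → G) (hc : CoxRel Fi23.edges x)
    (hs : (x .d * x .c * x .b * x .d * x .e * x .f * x .d * x .h * x .i) ^ 10 = 1)
    (hz : (x .a * x .b * x .c * x .d * x .e * x .f * x .h) ^ 9 * (x .a * x .b * x .c * x .d * x .e * x .f * x .h) ^ 9 = 1)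
    (hzc : ∀ y, Commute ((x .a * x .b * x .c * x .d * x .e * x .f * x .h) ^ 9) (x y)) :
    ((x .d * x .e * x .c * x .h * x .f * x .b * x .g) ^ 9 * x .j) ^ 3 = 1 ∨
      ((x .d * x .e * x .c * x .h * x .f * x .b * x .g) ^ 9 * x .j) ^ 3 = (x .a * x .b * x .c * x .d * x .e * x .f * x .h) ^ 9 := by
  let K : Subgroup G := Subgroup.closure (Set.range x)
  let y : Fi23.Gen → K := fun t => ⟨x t, Subgroup.subset_closure ⟨t, rfl⟩⟩
  let z : K := (y .a * y .b * y .c * y .d * y .e * y .f * y .h) ^ 9
  have hzv : (z : G) = (x .a * x .b * x .c * x .d * x .e * x .f * x .h) ^ 9 := by simp [z, y]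
  have hcen : z ∈ Subgroup.center K := by
    rw [Subgroup.mem_center_iff]
    intro t
    have ht : (t : G) ∈ Subgroup.centralizer ({(z : G)} : Set G) := by
      refine (Subgroup.closure_le _).mpr ?_ t.2
      rintro _ ⟨s, rfl⟩
      rw [SetLike.mem_coe, Subgroup.mem_centralizer_singleton_iff, hzv]
      exact (hzc s).symm
    rw [Subgroup.mem_centralizer_singleton_iff] at ht
    exact Subtype.ext ht
  have hle : Subgroup.zpowers z ≤ Subgroup.center K := Subgroup.zpowers_le.mpr hcen
  haveI : (Subgroup.zpowers z).Normal := ⟨fun n hn t => by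
    rw [(Subgroup.mem_center_iff.mp (hle hn) t : t * n = n * t), mul_inv_cancel_right]
    exact hn⟩
  let q : K →* K ⧸ Subgroup.zpowers z := QuotientGroup.mk' _
  have hcy : CoxRel Fi23.edges (fun t => q (y t)) := by
    intro a ha b hb
    rw [← map_mul, ← map_pow]
    have h : (y a * y b) ^ coxLabel Fi23.edges a b = 1 := Subtype.ext (by simpa [y] using hc a ha b hb)
    rw [h, map_one]
  have hsy : (y .d * y .c * y .b * y .d * y .e * y .f * y .d * y .h * y .i) ^ 10 = 1 := Subtype.ext (by simpa [y] using hs)
  have hqz : q z = 1 := (QuotientGroup.eq_one_iff _).mpr (Subgroup.mem_zpowers _)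
  let φ : Fi23 →* K ⧸ Subgroup.zpowers z := PresentedGroup.toGroup (hcy.lift_one (extra := Fi23.extra) (by
    intro r hr
    simp only [Fi23.extra, List.mem_cons, List.not_mem_nil, or_false] at hr
    rcases hr with rfl | rfl
    · simpa using congrArg q hsy
    · simpa [z] using hqz))
  have hφ : ∀ t, φ (PresentedGroup.of t) = q (y t) := fun t => PresentedGroup.toGroup.of _
  let u : K := ((y .d * y .e * y .c * y .h * y .f * y .b * y .g) ^ 9 * y .j) ^ 3
  have hu : q u = 1 := by
    have h := congrArg φ Fi23Word.u_eq_one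
    simp only [map_pow, map_mul, map_one, hφ] at h
    simpa [u] using h
  obtain ⟨n, hn⟩ := Subgroup.mem_zpowers_iff.mp ((QuotientGroup.eq_one_iff _).mp hu)
  have hn' : ((x .a * x .b * x .c * x .d * x .e * x .f * x .h) ^ 9) ^ n = ((x .d * x .e * x .c * x .h * x .f * x .b * x .g) ^ 9 * x .j) ^ 3 := by
    rw [← hzv, ← Subgroup.coe_zpow, hn]
    simp [u, y]
  rw [← hn']
  rcases Int.even_or_odd n with ⟨m, rfl⟩ | ⟨m, rfl⟩
  · left
    rw [← two_mul, zpow_mul, zpow_two, hz, one_zpow]
  · right
    rw [zpow_add_one, zpow_mul, zpow_two, hz, one_zpow, one_mul]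

/-- The diagram with one arm of length five, one of length three and one of length two. -/
def edges : List (Option Fi23.Gen × ℕ × Option Fi23.Gen) :=
  Fi23.edges.map (fun e => (some e.1, e.2.1, some e.2.2)) ++ [(some .j, 3, none)]

/-- Y322 inside. -/
def σA : Y322.Gen → Option Fi23.Gen
  | .a => some .a
  | .b => some .b
  | .c => some .c
  | .d => some .d
  | .e => some .e
  | .f => some .f
  | .h => some .h
  | .i => some .i

/-- Y522 inside. -/
def σQ : Y522.Gen → Option Fi23.Gen
  | .b => some .b
  | .c => some .c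
  | .d => some .d
  | .e => some .e
  | .f => some .f
  | .g => some .g
  | .j => some .j
  | .k => none
  | .h => some .h
  | .i => some .i

theorem σA_ok : ∀ x ∈ coxNodes Spider322.Pr.edges, ∀ y ∈ coxNodes Spider322.Pr.edges,
    σA x ∈ coxNodes edges ∧ σA y ∈ coxNodes edges ∧
      coxLabel edges (σA x) (σA y) = coxLabel Spider322.Pr.edges x y := by
  decide +kernel

theorem σQ_ok : ∀ x ∈ coxNodes Spider522.Pr.edges, ∀ y ∈ coxNodes Spider522.Pr.edges,
    σQ x ∈ coxNodes edges ∧ σQ y ∈ coxNodes edges ∧
      coxLabel edges (σQ x) (σQ y) = coxLabel Spider522.Pr.edges x y := by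
  decide +kernel

theorem some_ok : ∀ x ∈ coxNodes Fi23.edges, ∀ y ∈ coxNodes Fi23.edges,
    some x ∈ coxNodes edges ∧ some y ∈ coxNodes edges ∧
      coxLabel edges (some x) (some y) = coxLabel Fi23.edges x y := by
  decide +kernel

theorem mem_nodes : ∀ y : Fi23.Gen, some y ∈ coxNodes edges := by
  intro y; cases y <;> decide +kernel

theorem end_node (x : Option Fi23.Gen → G) (hc : CoxRel edges x) (ε : G →* ℤˣ) (hε : ∀ y, ε (x y) = -1)
    (hs : (x (some .d) * x (some .c) * x (some .b) * x (some .d) * x (some .e) * x (some .f) * x (some .d) * x (some .h) * x (some .i)) ^ 10 = 1) :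
    x none = (x (some .d) * x (some .e) * x (some .c) * x (some .h) * x (some .f) * x (some .b) * x (some .g)) ^ 9 ∧
    x none = (x (some .d) * x (some .e) * x (some .h) * x (some .c) * x (some .f) * x (some .i) * x (some .g)) ^ 9 := by
  obtain ⟨hz, hzz, -, -, hzA, -⟩ := Y322.facts (fun y => x (σA y)) (hc.comp σA σA_ok) hs
  simp only [σA] at hz hzz hzA
  have hlab : ∀ s t : Fi23.Gen, coxLabel edges (some s) (some t) = 2 → Commute (x (some s)) (x (some t)) :=
    fun s t h => hc.commute (mem_nodes s) (mem_nodes t) h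
  have hzc : ∀ y : Fi23.Gen, Commute ((x (some .a) * x (some .b) * x (some .c) * x (some .d) * x (some .e) * x (some .f) * x (some .h)) ^ 9) (x (some y)) := by
    intro y
    cases y
    case g =>
      rw [hzz]
      refine Commute.pow_left ?_ 9
      repeat' apply Commute.mul_left
      all_goals exact hlab _ _ (by decide +kernel)
    case j =>
      refine Commute.pow_left ?_ 9
      repeat' apply Commute.mul_left
      all_goals exact hlab _ _ (by decide +kernel)
    all_goals first
      | exact hzA .a | exact hzA .b | exact hzA .c | exact hzA .d | exact hzA .e | exact hzA .f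
      | exact hzA .h | exact hzA .i
  have hu : ((x (some .d) * x (some .e) * x (some .c) * x (some .h) * x (some .f) * x (some .b) * x (some .g)) ^ 9 * x (some .j)) ^ 3 = 1 := by
    rcases long_word (fun y => x (some y)) (hc.comp some some_ok) hs hz hzc with h | h
    · exact h
    · exfalso
      have h' := congrArg ε h
      simp only [map_pow, map_mul, hε] at h'
      exact absurd h' (by decide)
  let φ : Spider522.Pr →* G := PresentedGroup.toGroup ((hc.comp σQ σQ_ok).lift_one (extra := Spider522.Pr.extra) (by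
    intro r hr
    simp only [Spider522.Pr.extra, List.mem_cons, List.not_mem_nil, or_false] at hr
    rcases hr with rfl | rfl
    · simpa [σQ] using hs
    · simpa [σQ] using hu))
  have hφ : ∀ t, φ (PresentedGroup.of t) = x (σQ t) := fun t => PresentedGroup.toGroup.of _
  obtain ⟨h1, h2⟩ := Y522.end_node
  exact ⟨by simpa [hφ, σQ] using congrArg φ h1, by simpa [hφ, σQ] using congrArg φ h2⟩

end CfsgLib.Spider.Main
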