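import Cfsg.Agent.Lib.CosetEnum.Presented
import Cfsg.Agent.Lib.CosetEnum.Chain

/-!
Substitutions between groups given by Coxeter diagrams and further relators.
-/

set_option autoImplicit false

namespace CfsgLib.Spider

open Cfsg.Spor CfsgLib.CosetEnum

variable {α β : Type} [DecidableEq α] [DecidableEq β] {G H : Type*} [Group G] [Group H]

/-- The values `f` satisfy the relations of a diagram. -/
def CoxRel (edges : List (α × ℕ × α)) (f : α → G) : Prop :=
  ∀ x ∈ coxNodes edges, ∀ y ∈ coxNodes edges, (f x * f y) ^ coxLabel edges x y = 1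

theorem CoxRel.lift_one {edges : List (α × ℕ × α)} {f : α → G} (hc : CoxRel edges f)
    {extra : List (FreeGroup α)} (he : ∀ r ∈ extra, FreeGroup.lift f r = 1) :
    ∀ r ∈ coxRelators edges ∪ {r | r ∈ extra}, FreeGroup.lift f r = 1 := by
  rintro r (⟨x, hx, y, hy, rfl⟩ | hr)
  · simpa using hc x hx y hy
  · exact he r hr

theorem coxRel_of (edges : List (α × ℕ × α)) (extra : List (FreeGroup α)) :
    CoxRel edges (fun x => (PresentedGroup.of x : PresentedGroup (coxRelators edges ∪ {r | r ∈ extra}))) := by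
  intro x hx y hy
  have h := PresentedGroup.one_of_mem (rels := coxRelators edges ∪ {r | r ∈ extra}) (Or.inl ⟨x, hx, y, hy, rfl⟩)
  rw [map_pow, map_mul] at h
  exact h

theorem CoxRel.comp {E : List (α × ℕ × α)} {F : List (β × ℕ × β)} {f : β → G} (hF : CoxRel F f) (σ : α → β)
    (h : ∀ x ∈ coxNodes E, ∀ y ∈ coxNodes E,
      σ x ∈ coxNodes F ∧ σ y ∈ coxNodes F ∧ coxLabel F (σ x) (σ y) = coxLabel E x y) :
    CoxRel E (fun x => f (σ x)) := by
  intro x hx y hy
  obtain ⟨hx', hy', e⟩ := h x hx y hy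
  exact e ▸ hF _ hx' _ hy'

theorem CoxRel.sq {edges : List (α × ℕ × α)} {f : α → G} (hc : CoxRel edges f) {x : α} (hx : x ∈ coxNodes edges) :
    f x * f x = 1 := by
  have h := hc x hx x hx
  simpa [coxLabel] using h

theorem commute_of_sq {a b : G} (ha : a * a = 1) (hb : b * b = 1) (hab : (a * b) * (a * b) = 1) : Commute a b := by
  have h1 : (a * b)⁻¹ = a * b := inv_eq_of_mul_eq_one_left hab
  have ha' : a⁻¹ = a := inv_eq_of_mul_eq_one_left ha
  have hb' : b⁻¹ = b := inv_eq_of_mul_eq_one_left hb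
  show a * b = b * a
  calc a * b = (a * b)⁻¹ := h1.symm
    _ = b * a := by rw [mul_inv_rev, ha', hb']

theorem CoxRel.commute {edges : List (α × ℕ × α)} {f : α → G} (hc : CoxRel edges f) {x y : α}
    (hx : x ∈ coxNodes edges) (hy : y ∈ coxNodes edges) (h : coxLabel edges x y = 2) : Commute (f x) (f y) := by
  have h' := hc x hx y hy
  rw [h, pow_two] at h'
  exact commute_of_sq (hc.sq hx) (hc.sq hy) h'

theorem rotate_pow {a b : G} {n : ℕ} (h : (a * b) ^ n = 1) : (b * a) ^ n = 1 := by
  have e : b * a = a⁻¹ * (a * b) * (a⁻¹)⁻¹ := by group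
  rw [e, conj_pow, h, mul_one, mul_inv_cancel]

theorem word_one {M : Type*} [Group M] {n ip : ℕ} {T : List Tr} (hip : ipOK ip = true)
    (hrow : ∀ k < n, rowOK T ip n k = true) (π : M →* Equiv.Perm (Fin n)) (hinj : Function.Injective π) (g : ℕ → M)
    (hπ : ∀ x < 16, π (g x) = permOf T ip n hip hrow x) (l : List ℕ) (hl : ∀ x ∈ l, x < 16)
    (h : ∀ k < n, scan T l k = k) : (l.map g).prod = 1 := by
  refine hinj ?_
  rw [map_one, map_list_prod, List.map_map, List.map_congr_left (f := ⇑π ∘ g) (g := permOf T ip n hip hrow) fun x hx => hπ x (hl x hx)]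
  exact prod_eq_one_of_scan T ip n hip hrow l hl h

theorem prod_replicate {M : Type*} [Monoid M] (g : ℕ → M) (m : ℕ) (l : List ℕ) :
    (((List.replicate m l).flatten).map g).prod = ((l.map g).prod) ^ m := by
  induction m with
  | zero => simp
  | succ m ih => rw [List.replicate_succ, List.flatten_cons, List.map_append, List.prod_append, ih, pow_succ']

end CfsgLib.Spider
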