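import Cfsg.Agent.Lib.Spider.Tools
import Cfsg.Agent.Lib.CosetEnum.Spider322.Exact

/-!
Identities between long words in the diagram Y322 with the spider relation.
-/

set_option autoImplicit false

namespace CfsgLib.Spider.Y322

open Cfsg.Spor CfsgLib.CosetEnum

/-- The diagram. -/
abbrev Gen : Type := Spider322.Pr.Gen

/-- The word `(abcdefh)^9`. -/
def zw : List ℕ := (List.replicate 9 [0, 1, 2, 3, 4, 5, 6]).flatten
/-- The word `(abcdehi)^9`. -/
def zw' : List ℕ := (List.replicate 9 [0, 1, 2, 3, 4, 6, 7]).flatten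
/-- The word `(dchebia)^9`. -/
def ww : List ℕ := (List.replicate 9 [3, 2, 6, 4, 1, 7, 0]).flatten
/-- The word `(dcehbfa)^9`. -/
def ww' : List ℕ := (List.replicate 9 [3, 2, 4, 6, 1, 5, 0]).flatten

/-- The words to be checked. -/
def words : List (List ℕ) :=
  [zw ++ zw, zw' ++ zw', ww ++ ww, ww' ++ ww', zw ++ zw', ww ++ ww'] ++
    (List.range 8).map (fun x => zw ++ [x] ++ zw ++ [x]) ++ (List.range 8).map (fun x => ww ++ [x] ++ ww ++ [x])

theorem words_scan : allFrom (fun k => fixesAll Spider322.table k words) 728 0 = true := by decide +kernel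

theorem words_lt : ∀ l ∈ words, ∀ x ∈ l, x < 16 := by decide +kernel

theorem words_one : ∀ l ∈ words, (l.map Spider322.g).prod = 1 := fun l hl =>
  word_one Spider322.ip_ok Spider322.row_ok Spider322.π Spider322.injective Spider322.g Spider322.hπ l (words_lt l hl)
    fun k hk => fixesAll_spec _ _ _ (allFrom_spec _ _ _ words_scan k (Nat.zero_le _) (by omega)) l hl

/-- What is extracted from the diagram. -/
def Facts {G : Type*} [Group G] (x : Gen → G) : Prop :=
  (x .a * x .b * x .c * x .d * x .e * x .f * x .h) ^ 9 * (x .a * x .b * x .c * x .d * x .e * x .f * x .h) ^ 9 = 1 ∧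
  (x .a * x .b * x .c * x .d * x .e * x .f * x .h) ^ 9 = (x .a * x .b * x .c * x .d * x .e * x .h * x .i) ^ 9 ∧
  (x .d * x .c * x .h * x .e * x .b * x .i * x .a) ^ 9 * (x .d * x .c * x .h * x .e * x .b * x .i * x .a) ^ 9 = 1 ∧
  (x .d * x .c * x .h * x .e * x .b * x .i * x .a) ^ 9 = (x .d * x .c * x .e * x .h * x .b * x .f * x .a) ^ 9 ∧
  (∀ y, Commute ((x .a * x .b * x .c * x .d * x .e * x .f * x .h) ^ 9) (x y)) ∧
  (∀ y, Commute ((x .d * x .c * x .h * x .e * x .b * x .i * x .a) ^ 9) (x y))

theorem mem_nodes : ∀ y : Gen, y ∈ coxNodes Spider322.Pr.edges := by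
  intro y; cases y <;> decide

theorem facts_pr : Facts (fun y => (PresentedGroup.of y : Spider322.Pr)) := by
  let p : List ℕ → Spider322.Pr := fun l => (l.map Spider322.g).prod
  have hw : ∀ l ∈ words, p l = 1 := words_one
  have happ : ∀ l m, p (l ++ m) = p l * p m := fun l m => by simp [p]
  have ez : p zw = (PresentedGroup.of Spider322.Pr.Gen.a * PresentedGroup.of Spider322.Pr.Gen.b * PresentedGroup.of Spider322.Pr.Gen.c * PresentedGroup.of Spider322.Pr.Gen.d * PresentedGroup.of Spider322.Pr.Gen.e * PresentedGroup.of Spider322.Pr.Gen.f * PresentedGroup.of Spider322.Pr.Gen.h) ^ 9 := by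
    show ((List.replicate 9 _).flatten.map Spider322.g).prod = _
    rw [prod_replicate]
    simp only [List.map_cons, List.map_nil, List.prod_cons, List.prod_nil, mul_one, mul_assoc]
    rfl
  have ez' : p zw' = (PresentedGroup.of Spider322.Pr.Gen.a * PresentedGroup.of Spider322.Pr.Gen.b * PresentedGroup.of Spider322.Pr.Gen.c * PresentedGroup.of Spider322.Pr.Gen.d * PresentedGroup.of Spider322.Pr.Gen.e * PresentedGroup.of Spider322.Pr.Gen.h * PresentedGroup.of Spider322.Pr.Gen.i) ^ 9 := by
    show ((List.replicate 9 _).flatten.map Spider322.g).prod = _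
    rw [prod_replicate]
    simp only [List.map_cons, List.map_nil, List.prod_cons, List.prod_nil, mul_one, mul_assoc]
    rfl
  have ew : p ww = (PresentedGroup.of Spider322.Pr.Gen.d * PresentedGroup.of Spider322.Pr.Gen.c * PresentedGroup.of Spider322.Pr.Gen.h * PresentedGroup.of Spider322.Pr.Gen.e * PresentedGroup.of Spider322.Pr.Gen.b * PresentedGroup.of Spider322.Pr.Gen.i * PresentedGroup.of Spider322.Pr.Gen.a) ^ 9 := by
    show ((List.replicate 9 _).flatten.map Spider322.g).prod = _
    rw [prod_replicate]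
    simp only [List.map_cons, List.map_nil, List.prod_cons, List.prod_nil, mul_one, mul_assoc]
    rfl
  have ew' : p ww' = (PresentedGroup.of Spider322.Pr.Gen.d * PresentedGroup.of Spider322.Pr.Gen.c * PresentedGroup.of Spider322.Pr.Gen.e * PresentedGroup.of Spider322.Pr.Gen.h * PresentedGroup.of Spider322.Pr.Gen.b * PresentedGroup.of Spider322.Pr.Gen.f * PresentedGroup.of Spider322.Pr.Gen.a) ^ 9 := by
    show ((List.replicate 9 _).flatten.map Spider322.g).prod = _
    rw [prod_replicate]
    simp only [List.map_cons, List.map_nil, List.prod_cons, List.prod_nil, mul_one, mul_assoc]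
    rfl
  have hz : p zw * p zw = 1 := happ _ _ ▸ hw _ (by simp [words])
  have hz' : p zw' * p zw' = 1 := happ _ _ ▸ hw _ (by simp [words])
  have hW : p ww * p ww = 1 := happ _ _ ▸ hw _ (by simp [words])
  have hW' : p ww' * p ww' = 1 := happ _ _ ▸ hw _ (by simp [words])
  have hzz : p zw = p zw' := by
    have h : p zw * p zw' = 1 := happ _ _ ▸ hw _ (by simp [words])
    rw [eq_inv_of_mul_eq_one_left h, inv_eq_of_mul_eq_one_left hz']
  have hWW : p ww = p ww' := by
    have h : p ww * p ww' = 1 := happ _ _ ▸ hw _ (by simp [words])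
    rw [eq_inv_of_mul_eq_one_left h, inv_eq_of_mul_eq_one_left hW']
  have hcomm : ∀ W : List ℕ, p W * p W = 1 → (∀ x, x < 8 → p (W ++ [x] ++ W ++ [x]) = 1) →
      ∀ y : Gen, Commute (p W) (PresentedGroup.of y) := by
    intro W hW h y
    refine commute_of_sq hW ((coxRel_of _ _).sq (mem_nodes y)) ?_
    have h' := h (Spider322.idx y) (by cases y <;> decide)
    rw [happ, happ, happ] at h'
    have hy : p [Spider322.idx y] = PresentedGroup.of y := by
      cases y <;> simp [p, Spider322.idx] <;> rfl
    rw [hy] at h'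
    simpa [mul_assoc] using h'
  have hcz := hcomm zw hz fun x hx => hw _ (by
    simp only [words, List.mem_append, List.mem_map, List.mem_range]
    exact Or.inl (Or.inr ⟨x, hx, rfl⟩))
  have hcw := hcomm ww hW fun x hx => hw _ (by
    simp only [words, List.mem_append, List.mem_map, List.mem_range]
    exact Or.inr ⟨x, hx, rfl⟩)
  unfold Facts
  rw [← ez, ← ez', ← ew, ← ew']
  exact ⟨hz, hzz, hW, hWW, hcz, hcw⟩

/-- The facts in any group satisfying the relations. -/
theorem facts {G : Type*} [Group G] (x : Gen → G) (hc : CoxRel Spider322.Pr.edges x)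
    (hs : (x .d * x .c * x .b * x .d * x .e * x .f * x .d * x .h * x .i) ^ 10 = 1) : Facts x := by
  let φ : Spider322.Pr →* G := PresentedGroup.toGroup (hc.lift_one (extra := Spider322.Pr.extra) (by
    intro r hr
    obtain rfl : r = (Spider322.Pr.d * Spider322.Pr.c * Spider322.Pr.b * Spider322.Pr.d * Spider322.Pr.e *
        Spider322.Pr.f * Spider322.Pr.d * Spider322.Pr.h * Spider322.Pr.i) ^ 10 := by
      simpa [Spider322.Pr.extra] using hr
    simpa using hs))
  have hφ : ∀ y, φ (PresentedGroup.of y) = x y := fun y => PresentedGroup.toGroup.of _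
  obtain ⟨h1, h2, h3, h4, h5, h6⟩ := facts_pr
  refine ⟨?_, ?_, ?_, ?_, fun y => ?_, fun y => ?_⟩
  · simpa [hφ] using congrArg φ h1
  · simpa [hφ] using congrArg φ h2
  · simpa [hφ] using congrArg φ h3
  · simpa [hφ] using congrArg φ h4
  · simpa [hφ] using (h5 y).map φ
  · simpa [hφ] using (h6 y).map φ

end CfsgLib.Spider.Y322
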