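import Cfsg.Agent.Lib.Spider.Y322
import Cfsg.Agent.Lib.CosetEnum.Spider522.UTop

/-!
In the diagram Y522 with the spider relation and the killed long element of E8 the end node is redundant.
-/

set_option autoImplicit false

namespace CfsgLib.Spider.Y522

open Cfsg.Spor CfsgLib.CosetEnum

/-- The diagram. -/
abbrev Gen : Type := Spider522.Pr.Gen

/-- The E7 arms inside Y322. -/
def σ : Y322.Gen → Gen
  | .a => .g
  | .b => .f
  | .c => .e
  | .d => .d
  | .e => .h
  | .f => .i
  | .h => .c
  | .i => .b

theorem σ_ok : ∀ x ∈ coxNodes Spider322.Pr.edges, ∀ y ∈ coxNodes Spider322.Pr.edges,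
    σ x ∈ coxNodes Spider522.Pr.edges ∧ σ y ∈ coxNodes Spider522.Pr.edges ∧
      coxLabel Spider522.Pr.edges (σ x) (σ y) = coxLabel Spider322.Pr.edges x y := by
  decide +kernel

theorem mem_nodes : ∀ y : Gen, y ∈ coxNodes Spider522.Pr.edges := by
  intro y; cases y <;> decide

theorem end_node :
    (PresentedGroup.of Spider522.Pr.Gen.k : Spider522.Pr) = ((PresentedGroup.of Spider522.Pr.Gen.d : Spider522.Pr) * (PresentedGroup.of Spider522.Pr.Gen.e : Spider522.Pr) * (PresentedGroup.of Spider522.Pr.Gen.c : Spider522.Pr) * (PresentedGroup.of Spider522.Pr.Gen.h : Spider522.Pr) * (PresentedGroup.of Spider522.Pr.Gen.f : Spider522.Pr) * (PresentedGroup.of Spider522.Pr.Gen.b : Spider522.Pr) * (PresentedGroup.of Spider522.Pr.Gen.g : Spider522.Pr)) ^ 9 ∧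
    (PresentedGroup.of Spider522.Pr.Gen.k : Spider522.Pr) = ((PresentedGroup.of Spider522.Pr.Gen.d : Spider522.Pr) * (PresentedGroup.of Spider522.Pr.Gen.e : Spider522.Pr) * (PresentedGroup.of Spider522.Pr.Gen.h : Spider522.Pr) * (PresentedGroup.of Spider522.Pr.Gen.c : Spider522.Pr) * (PresentedGroup.of Spider522.Pr.Gen.f : Spider522.Pr) * (PresentedGroup.of Spider522.Pr.Gen.i : Spider522.Pr) * (PresentedGroup.of Spider522.Pr.Gen.g : Spider522.Pr)) ^ 9 := by
  let v : Gen → Spider522.Pr := fun y => PresentedGroup.of y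
  have hc : CoxRel Spider522.Pr.edges v := coxRel_of _ _
  have hspider : (v .d * v .c * v .b * v .d * v .e * v .f * v .d * v .h * v .i) ^ 10 = 1 := by
    have h := PresentedGroup.one_of_mem (rels := coxRelators Spider522.Pr.edges ∪ {r | r ∈ Spider522.Pr.extra})
      (x := (Spider522.Pr.d * Spider522.Pr.c * Spider522.Pr.b * Spider522.Pr.d * Spider522.Pr.e *
        Spider522.Pr.f * Spider522.Pr.d * Spider522.Pr.h * Spider522.Pr.i) ^ 10) (Or.inr (by simp [Spider522.Pr.extra]))
    simp only [map_pow, map_mul] at h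
    exact h
  have hs : (v .d * v .e * v .f * v .d * v .h * v .i * v .d * v .c * v .b) ^ 10 = 1 := by
    have h := rotate_pow (a := v .d * v .c * v .b) (b := v .d * v .e * v .f * v .d * v .h * v .i) (n := 10)
      (by simpa [mul_assoc] using hspider)
    simpa [mul_assoc] using h
  obtain ⟨-, -, hW2, hWW, -, hWc⟩ := Y322.facts (fun y => v (σ y)) (hc.comp σ σ_ok) hs
  simp only [σ] at hW2 hWW hWc
  set w : Spider522.Pr := (v .d * v .e * v .c * v .h * v .f * v .b * v .g) ^ 9 with hw
  have hu : (w * v .j) ^ 3 = 1 := by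
    have h := PresentedGroup.one_of_mem (rels := coxRelators Spider522.Pr.edges ∪ {r | r ∈ Spider522.Pr.extra})
      (x := ((Spider522.Pr.d * Spider522.Pr.e * Spider522.Pr.c * Spider522.Pr.h * Spider522.Pr.f * Spider522.Pr.b *
        Spider522.Pr.g) ^ 9 * Spider522.Pr.j) ^ 3) (Or.inr (by simp [Spider522.Pr.extra]))
    simp only [map_pow, map_mul] at h
    exact h
  let v' : Gen → Spider522.Pr := fun y => if y = .k then w else v y
  have hcom : ∀ y : Gen, y ≠ .k → y ≠ .j → Commute w (v y) := by
    intro y h1 h2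
    cases y <;>
      first | exact hWc .a | exact hWc .b | exact hWc .c | exact hWc .d | exact hWc .e | exact hWc .f |
        exact hWc .h | exact hWc .i | exact absurd rfl h1 | exact absurd rfl h2
  have hlab : ∀ y : Gen, y ≠ .k → y ≠ .j →
      coxLabel Spider522.Pr.edges .k y = 2 ∧ coxLabel Spider522.Pr.edges y .k = 2 := by
    intro y h1 h2
    cases y <;> first | decide +kernel | exact absurd rfl h1 | exact absurd rfl h2
  have hcv : CoxRel Spider522.Pr.edges v' := by
    intro x hx y hy
    by_cases hxk : x = .k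
    · subst hxk
      by_cases hyk : y = .k
      · subst hyk
        rw [show coxLabel Spider522.Pr.edges .k .k = 1 by decide +kernel, pow_one]
        simpa [v'] using hW2
      by_cases hyj : y = .j
      · subst hyj
        rw [show coxLabel Spider522.Pr.edges .k .j = 3 by decide +kernel]
        simpa [v'] using hu
      rw [(hlab y hyk hyj).1]
      simp only [v', if_true, hyk, if_false]
      rw [(hcom y hyk hyj).mul_pow, pow_two, pow_two, hW2, hc.sq hy, one_mul]
    · by_cases hyk : y = .k
      · subst hyk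
        by_cases hxj : x = .j
        · subst hxj
          rw [show coxLabel Spider522.Pr.edges .j .k = 3 by decide +kernel]
          simpa [v'] using rotate_pow hu
        rw [(hlab x hxk hxj).2]
        simp only [v', if_true, hxk, if_false]
        rw [(hcom x hxk hxj).symm.mul_pow, pow_two, pow_two, hW2, hc.sq hx, one_mul]
      · simp only [v', hxk, hyk, if_false]
        exact hc x hx y hy
  let ψ : Spider522.Pr →* Spider522.Pr := PresentedGroup.toGroup (hcv.lift_one (extra := Spider522.Pr.extra) (by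
    intro r hr
    simp only [Spider522.Pr.extra, List.mem_cons, List.not_mem_nil, or_false] at hr
    rcases hr with rfl | rfl
    · simpa [v'] using hspider
    · simpa [v', hw] using hu))
  have hψ : ∀ y, ψ (v y) = v' y := fun y => PresentedGroup.toGroup.of _
  obtain ⟨u, hu'⟩ := Spider522.UTop.covers
  have htop : Level Spider522.g [0, 1, 2, 3, 4, 5, 6, 8, 9] = ⊤ := by
    refine eq_top_iff.mpr fun z _ => ?_
    obtain ⟨k, hk, hkz⟩ := hu' z trivial
    obtain ⟨l, hl, hlz⟩ := hu' 1 trivial
    obtain rfl : k = 0 := by omega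
    obtain rfl : l = 0 := by omega
    simpa [mul_assoc] using Subgroup.mul_mem _ hkz (Subgroup.inv_mem _ hlz)
  have hid : ψ = MonoidHom.id _ := by
    refine MonoidHom.ext fun z => ?_
    have hz : z ∈ Level Spider522.g [0, 1, 2, 3, 4, 5, 6, 8, 9] := htop ▸ trivial
    refine MonoidHom.eqOn_closure (f := ψ) (g := MonoidHom.id _) ?_ hz
    rintro _ ⟨x, hx, rfl⟩
    simp only [List.mem_cons, List.not_mem_nil, or_false] at hx
    rcases hx with rfl | rfl | rfl | rfl | rfl | rfl | rfl | rfl | rfl
    exacts [hψ .b, hψ .c, hψ .d, hψ .e, hψ .f, hψ .g, hψ .j, hψ .h, hψ .i]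
  have hk : v .k = w := by
    have h := hψ .k
    rw [hid] at h
    simpa [v'] using h
  exact ⟨hk, hk.trans hWW⟩

end CfsgLib.Spider.Y522
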